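import Mathlib

/-!
The Arad–Herzog property for `PSL_d(F)`, `d ≥ 3`, by traces.
-/

set_option autoImplicit false
set_option linter.unusedSectionVars false

namespace H64.AH

open Matrix

variable {n F : Type*} [Fintype n] [DecidableEq n] [Field F]

/-- the transvection `1 + u φ` -/
def tv (u φ : n → F) (h : φ ⬝ᵥ u = 0) : SpecialLinearGroup n F :=
  ⟨1 + vecMulVec u φ, by
    rw [vecMulVec_eq Unit, det_one_add_replicateCol_mul_replicateRow, h, add_zero]⟩

lemma tv_val (u φ : n → F) (h : φ ⬝ᵥ u = 0) : (tv u φ h).1 = 1 + vecMulVec u φ := rfl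

lemma tv_inv (u φ : n → F) (h : φ ⬝ᵥ u = 0) : (tv u φ h)⁻¹.1 = 1 - vecMulVec u φ := by
  have h' : φ ⬝ᵥ (-u) = 0 := by simp [h]
  have : (tv u φ h)⁻¹ = tv (-u) φ h' := by
    rw [inv_eq_iff_mul_eq_one]
    ext1
    simp only [Matrix.SpecialLinearGroup.coe_mul, tv_val, Matrix.SpecialLinearGroup.coe_one]
    rw [add_mul, mul_add, mul_add, vecMulVec_mul_vecMulVec, h']
    simp [neg_vecMulVec]
  rw [this, tv_val, neg_vecMulVec, sub_eq_add_neg]

lemma exists_pair {A : Matrix n n F} (hA : ∀ c : F, A ≠ c • (1 : Matrix n n F)) :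
    ∃ u φ : n → F, φ ⬝ᵥ u = 0 ∧ φ ⬝ᵥ A *ᵥ u ≠ 0 := by
  by_contra h
  push Not at h
  have h1 : ∀ i j, i ≠ j → A i j = 0 := fun i j hij => by
    simpa using h (Pi.single j 1) (Pi.single i 1) (by simp [hij])
  have h2 : ∀ i j, A i i = A j j := fun i j => by
    by_cases hij : i = j
    · rw [hij]
    have := h (Pi.single i 1 + Pi.single j 1) (Pi.single i 1 - Pi.single j 1)
      (by simp [hij, Ne.symm hij])
    simp [mulVec_add, h1 i j hij, h1 j i (Ne.symm hij)] at this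
    exact add_neg_eq_zero.1 this
  rcases isEmpty_or_nonempty n with h0 | ⟨⟨k⟩⟩
  · exact hA 0 (Subsingleton.elim _ _)
  refine hA (A k k) ?_
  ext i j
  by_cases hij : i = j
  · subst hij; simp [h2 i k]
  · simp [hij, h1 i j hij]

lemma exists_kill (hn : 3 ≤ Fintype.card n) (x y : n → F) :
    ∃ φ : n → F, φ ≠ 0 ∧ φ ⬝ᵥ x = 0 ∧ φ ⬝ᵥ y = 0 := by
  let f : (n → F) →ₗ[F] (Fin 2 → F) := Matrix.mulVecLin (Matrix.of ![x, y])
  have : LinearMap.ker f ≠ ⊥ := LinearMap.ker_ne_bot_of_finrank_lt (by simp; omega)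
  obtain ⟨φ, h1, h2⟩ := (Submodule.ne_bot_iff _).1 this
  have h3 : (Matrix.of ![x, y]) *ᵥ φ = 0 := h1
  refine ⟨φ, h2, ?_, ?_⟩
  · rw [dotProduct_comm]; exact congrFun h3 0
  · rw [dotProduct_comm]; exact congrFun h3 1

lemma dich {u : n → F} (hu : u ≠ 0) (v : n → F) :
    (∃ c : F, v = c • u) ∨ ∃ ψ : n → F, ψ ⬝ᵥ u = 1 ∧ ψ ⬝ᵥ v = 0 := by
  by_cases h : ∀ i j, u i * v j = u j * v i
  · obtain ⟨i, hi⟩ := Function.ne_iff.1 hu
    refine Or.inl ⟨v i / u i, funext fun j => ?_⟩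
    have hi' : u i ≠ 0 := hi
    simp only [Pi.smul_apply, smul_eq_mul]
    field_simp
    linear_combination h i j
  · push Not at h
    obtain ⟨i, j, h⟩ := h
    have h' := sub_ne_zero.2 h
    refine Or.inr ⟨(u i * v j - u j * v i)⁻¹ • (Pi.single i (v j) - Pi.single j (v i)), ?_, ?_⟩
    · simp only [smul_dotProduct, sub_dotProduct, single_dotProduct, smul_eq_mul]
      field_simp
    · simp only [smul_dotProduct, sub_dotProduct, single_dotProduct, smul_eq_mul]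
      ring

/-- matrices orthogonal to all conjugates of `B` -/
def W (B : Matrix n n F) : Submodule F (Matrix n n F) where
  carrier := {M | ∀ g : SpecialLinearGroup n F, trace (g.1 * B * g⁻¹.1 * M) = 0}
  zero_mem' := fun g => by simp
  add_mem' := fun {a b} ha hb g => by rw [mul_add, trace_add, ha g, hb g, add_zero]
  smul_mem' := fun c {a} ha g => by rw [mul_smul_comm, trace_smul, ha g, smul_zero]

lemma W_conj {B M : Matrix n n F} (h : M ∈ W B) (g : SpecialLinearGroup n F) :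
    g.1 * M * g⁻¹.1 ∈ W B := fun k => by
  have := h (g⁻¹ * k)
  rw [_root_.mul_inv_rev, inv_inv] at this
  simp only [Matrix.SpecialLinearGroup.coe_mul] at this
  rw [← this, ← mul_assoc, trace_mul_comm]
  simp only [mul_assoc]

lemma W_left {B : Matrix n n F} {u φ : n → F} (h : vecMulVec u φ ∈ W B) (hu : u ≠ 0)
    {v : n → F} (hv : φ ⬝ᵥ v = 0) : vecMulVec v φ ∈ W B := by
  rcases dich hu v with ⟨c, rfl⟩ | ⟨ψ, h1, h2⟩
  · rw [smul_vecMulVec]; exact (W B).smul_mem c h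
  · have := (W B).sub_mem (W_conj h (tv v ψ h2)) h
    rw [tv_val, tv_inv] at this
    convert this using 1
    simp only [add_mul, mul_sub, one_mul, mul_one, vecMulVec_mul_vecMulVec, h1, hv, one_smul,
      zero_smul, vecMulVec_zero]
    abel

lemma W_right {B : Matrix n n F} {u φ : n → F} (h : vecMulVec u φ ∈ W B) (hφ : φ ≠ 0)
    {ψ : n → F} (hψ : ψ ⬝ᵥ u = 0) : vecMulVec u ψ ∈ W B := by
  rcases dich hφ ψ with ⟨c, rfl⟩ | ⟨w, h1, h2⟩
  · rw [vecMulVec_smul]; exact (W B).smul_mem c h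
  · rw [dotProduct_comm] at h1 h2
    have := (W B).sub_mem h (W_conj h (tv w ψ h2))
    rw [tv_val, tv_inv] at this
    convert this using 1
    simp only [add_mul, mul_sub, one_mul, mul_one, vecMulVec_mul_vecMulVec, h1, hψ, one_smul,
      zero_smul, vecMulVec_zero, zero_mul]
    abel

lemma W_rank (hn : 3 ≤ Fintype.card n) {B M : Matrix n n F} (h : M ∈ W B)
    (hM : ∀ c : F, M ≠ c • (1 : Matrix n n F)) :
    ∃ u φ : n → F, u ≠ 0 ∧ φ ≠ 0 ∧ vecMulVec u φ ∈ W B := by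
  obtain ⟨u, ψ, h1, h2⟩ := exists_pair hM
  obtain ⟨φ, h3, h4, h5⟩ := exists_kill hn u (M *ᵥ u)
  refine ⟨u, φ, fun e => h2 (by simp [e]), h3, ?_⟩
  have h6 : (ψ + φ) ⬝ᵥ u = 0 := by rw [add_dotProduct, h1, h4, add_zero]
  have := (W B).sub_mem ((W B).add_mem (W_conj h (tv u ψ h1)) (W_conj h (tv u φ h4)))
    ((W B).add_mem (W_conj h (tv u _ h6)) h)
  simp only [tv_val, tv_inv] at this
  have := (W B).smul_mem (ψ ⬝ᵥ M *ᵥ u)⁻¹ this
  convert this using 1
  rw [eq_comm, inv_smul_eq_iff₀ h2]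
  simp only [add_mul, mul_sub, one_mul, mul_one, vecMulVec_add, mul_add, vecMulVec_mul,
    vecMul_vecMulVec, ← dotProduct_mulVec, h5, zero_smul, vecMulVec_zero, vecMulVec_smul]
  abel

lemma W_scalar (hn : 3 ≤ Fintype.card n) {B M : Matrix n n F} (h : M ∈ W B)
    (hM : ∀ c : F, M ≠ c • (1 : Matrix n n F)) : ¬ ∀ c : F, B ≠ c • (1 : Matrix n n F) := by
  intro hB
  obtain ⟨u, φ, hu, hφ, h1⟩ := W_rank hn h hM
  obtain ⟨v, ψ, h2, h3⟩ := exists_pair hB
  obtain ⟨w, h4, h5, h6⟩ := exists_kill hn φ ψ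
  rw [dotProduct_comm] at h5 h6
  have h7 := W_left (W_right (W_left h1 hu h5) hφ h6) h4 h2 1
  simp only [inv_one, Matrix.SpecialLinearGroup.coe_one, one_mul, mul_one, mul_vecMulVec,
    trace_vecMulVec] at h7
  exact h3 (by rw [dotProduct_comm, h7])

theorem trace_both (hn : 3 ≤ Fintype.card n) {A B : Matrix n n F}
    (hA : ∀ c : F, A ≠ c • (1 : Matrix n n F)) (hB : ∀ c : F, B ≠ c • (1 : Matrix n n F))
    : ∃ k : SpecialLinearGroup n F, ∀ c : F, ∃ g : SpecialLinearGroup n F,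
      trace (g.1 * A * g⁻¹.1 * (k.1 * B * k⁻¹.1)) = c := by
  obtain ⟨u, ψ, h1, h2⟩ := exists_pair hA
  obtain ⟨φ, h3, h4, h5⟩ := exists_kill hn u (A *ᵥ u)
  set M := vecMulVec u φ * A - A * vecMulVec u φ with hM
  have hM0 : ∀ c : F, M ≠ c • (1 : Matrix n n F) := fun c e => by
    obtain ⟨w, h6, h7, h8⟩ := exists_kill hn φ (φ ᵥ* A)
    rw [dotProduct_comm] at h7 h8
    have e1 := congrArg (· *ᵥ w) e
    have e2 := congrArg (ψ ᵥ* ·) e
    simp only [hM, vecMulVec_mul, mul_vecMulVec, sub_mulVec, vecMulVec_mulVec, h7, h8,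
      smul_mulVec, one_mulVec, vecMul_sub, vecMul_vecMulVec, h1] at e1 e2
    have hc : c = 0 := by simpa [h6] using e1.symm
    rw [hc] at e2
    simp [h2, h3] at e2
  have hW : M ∉ W B := fun h => W_scalar hn h hM0 hB
  obtain ⟨k, hk⟩ := not_forall.1 hW
  refine ⟨k, fun c => ?_⟩
  set B' := k.1 * B * k⁻¹.1
  set t := (c - trace (A * B')) / trace (B' * M) with ht
  have h6 : φ ⬝ᵥ (t • u) = 0 := by simp [h4]
  refine ⟨tv _ φ h6, ?_⟩
  have e : (1 + vecMulVec (t • u) φ) * A * (1 - vecMulVec (t • u) φ) = A + t • M := by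
    simp only [hM, add_mul, mul_sub, one_mul, mul_one, smul_vecMulVec, smul_mul_assoc,
      mul_smul_comm, smul_sub]
    rw [vecMulVec_mul u φ A, vecMulVec_mul_vecMulVec, ← dotProduct_mulVec, h5]
    simp only [zero_smul, vecMulVec_zero, smul_zero, add_zero]
    abel
  rw [tv_val, tv_inv, e, add_mul, trace_add, smul_mul_assoc, trace_smul, trace_mul_comm M, ht,
    smul_eq_mul, div_mul_cancel₀ _ hk]
  ring

lemma not_scalar {A : SpecialLinearGroup n F}
    (h : (A : ProjectiveSpecialLinearGroup n F) ≠ 1) (c : F) :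
    A.1 ≠ c • (1 : Matrix n n F) := fun e => h <| by
  rw [QuotientGroup.eq_one_iff, Subgroup.mem_center_iff]
  intro g
  ext1
  simp [e]

lemma trace_eq_zero_iff {X Y : SpecialLinearGroup n F}
    (h : IsConj (X : ProjectiveSpecialLinearGroup n F) Y) (h0 : trace X.1 = 0) :
    trace Y.1 = 0 := by
  obtain ⟨c, hc⟩ := isConj_iff.1 h
  obtain ⟨c, rfl⟩ := QuotientGroup.mk_surjective c
  rw [← QuotientGroup.mk_mul, ← QuotientGroup.mk_inv, ← QuotientGroup.mk_mul,
    QuotientGroup.eq] at hc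
  obtain ⟨r, -, hr⟩ := Matrix.SpecialLinearGroup.mem_center_iff.1 hc
  have : Y = c * X * c⁻¹ * ((c * X * c⁻¹)⁻¹ * Y) := by group
  rw [this, Matrix.SpecialLinearGroup.coe_mul, ← hr, scalar_apply, ← smul_one_eq_diagonal, mul_smul_comm,
    mul_one, trace_smul, Matrix.SpecialLinearGroup.coe_mul, trace_mul_comm, Matrix.SpecialLinearGroup.coe_mul,
    ← mul_assoc, ← Matrix.SpecialLinearGroup.coe_mul, inv_mul_cancel, Matrix.SpecialLinearGroup.coe_one, one_mul,
    h0, smul_zero]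

theorem main (hn : 3 ≤ Fintype.card n) (a b : ProjectiveSpecialLinearGroup n F) (ha : a ≠ 1)
    (hb : b ≠ 1) :
    ∃ g h : ProjectiveSpecialLinearGroup n F,
      ¬ IsConj (a * b) (g * a * g⁻¹ * (h * b * h⁻¹)) := by
  obtain ⟨A, rfl⟩ := QuotientGroup.mk_surjective a
  obtain ⟨B, rfl⟩ := QuotientGroup.mk_surjective b
  obtain ⟨k, hk⟩ := trace_both hn (not_scalar ha) (not_scalar hb)
  obtain ⟨g0, h0⟩ := hk 0
  obtain ⟨g1, h1⟩ := hk 1
  by_contra h
  push Not at h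
  have := (h g0 k).symm.trans (h g1 k)
  simp only [← QuotientGroup.mk_mul, ← QuotientGroup.mk_inv] at this
  have h2 := trace_eq_zero_iff this h0
  exact one_ne_zero (h1.symm.trans h2)

end H64.AH
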